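import Groth.Agent.Sga67.ExtClass
import Groth.Agent.Sga67.TensorOps
import Mathlib.LinearAlgebra.InvariantBasisNumber

/-!
# The rank of a finite locally free module at a point

`rk M x`: the rank at `x` of a finite locally free module (junk otherwise).
-/

set_option autoImplicit false

universe u

open CategoryTheory CategoryTheory.Limits AlgebraicGeometry Opposite TopologicalSpace
open scoped TensorProduct
open Groth.Agent.Sga67.Sec Groth.Agent.Sga67.LocBasis

namespace Groth.Agent.Krr.H495.Rank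

variable {X : Scheme.{u}}

/-- Two local bases near a point have the same number of elements. -/
theorem card_eq {M : X.Modules} {V W : X.Opens} {κ κ' : Type*} [Fintype κ] [Fintype κ'] {e : κ → Sec M V}
    {e' : κ' → Sec M W} (he : IsLocBasis e) (he' : IsLocBasis e') {x : X} (hV : x ∈ V)
    (hW : x ∈ W) : Fintype.card κ = Fintype.card κ' := by
  have : Nonempty (V ⊓ W : X.Opens) := ⟨⟨x, hV, hW⟩⟩
  have : Nontrivial Γ(X, V ⊓ W) := inferInstance
  exact Fintype.card_congr (Module.Basis.indexEquiv (he.basis (inf_le_left : V ⊓ W ≤ V))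
    (he'.basis (inf_le_right : V ⊓ W ≤ W)))

/-- The rank of `M` at `x`. -/
noncomputable def rk (M : X.Modules) (x : X) : ℕ :=
  sInf {n | ∃ U : X.Opens, x ∈ U ∧ ∃ b : Fin n → Sec M U, IsLocBasis b}

theorem rk_eq_of_isLocBasis {M : X.Modules} {U : X.Opens} {κ : Type*} [Fintype κ] {b : κ → Sec M U}
    (hb : IsLocBasis b) {x : X} (hx : x ∈ U) : rk M x = Fintype.card κ := by
  have hset : {n | ∃ U : X.Opens, x ∈ U ∧ ∃ b : Fin n → Sec M U, IsLocBasis b} = {Fintype.card κ} := by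
    ext n
    constructor
    · rintro ⟨V, hxV, b', hb'⟩
      rw [Set.mem_singleton_iff, card_eq hb hb' hx hxV, Fintype.card_fin]
    · rintro rfl
      exact ⟨U, hx, _, hb.reindex (Fintype.equivFin κ).symm⟩
  rw [rk, hset, csInf_singleton]

/-- Near every point a finite locally free module has a local basis with `rk` elements. -/
theorem exists_isLocBasis {M : X.Modules} (hM : FlatMod.IsFinLocFree M) (x : X) :
    ∃ (U : X.Opens), x ∈ U ∧ ∃ b : Fin (rk M x) → Sec M U, IsLocBasis b := by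
  obtain ⟨U, n, hx, b, hb⟩ := (isFinLocFree_iff _).mp hM x
  have := rk_eq_of_isLocBasis hb hx
  rw [Fintype.card_fin] at this
  subst this
  exact ⟨U, hx, b, hb⟩

theorem isFinLocFreeOfRank_iff' {n : ℕ} {M : X.Modules} : FlatMod.IsFinLocFreeOfRank n M ↔
    ∀ x : X, ∃ (U : X.Opens), x ∈ U ∧ ∃ b : Fin n → Sec M U, IsLocBasis b := by
  simp only [FlatMod.IsFinLocFreeOfRank, nonempty_restrict_iso_iff]

/-- Finite locally free of rank `n` means finite locally free with rank function `n`. -/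
theorem isFinLocFreeOfRank_iff {n : ℕ} {M : X.Modules} : FlatMod.IsFinLocFreeOfRank n M ↔
    FlatMod.IsFinLocFree M ∧ ∀ x, rk M x = n := by
  rw [isFinLocFreeOfRank_iff']
  constructor
  · intro h
    refine ⟨?_, ?_⟩
    · rw [isFinLocFree_iff]
      intro x
      obtain ⟨U, hx, b, hb⟩ := h x
      exact ⟨U, n, hx, b, hb⟩
    · intro x
      obtain ⟨U, hx, b, hb⟩ := h x
      rw [rk_eq_of_isLocBasis hb hx, Fintype.card_fin]
  · rintro ⟨h, hr⟩ x
    obtain ⟨U, hx, b, hb⟩ := exists_isLocBasis h x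
    have := hr x
    subst this
    exact ⟨U, hx, b, hb⟩

theorem isFinLocFree_of_rank {n : ℕ} {M : X.Modules} (h : FlatMod.IsFinLocFreeOfRank n M) :
    FlatMod.IsFinLocFree M := (isFinLocFreeOfRank_iff.mp h).1

theorem rk_of_rank {n : ℕ} {M : X.Modules} (h : FlatMod.IsFinLocFreeOfRank n M) (x : X) : rk M x = n :=
  (isFinLocFreeOfRank_iff.mp h).2 x

theorem rk_iso {M N : X.Modules} (e : M ≅ N) (hM : FlatMod.IsFinLocFree M) (x : X) : rk M x = rk N x := by
  obtain ⟨U, hx, b, hb⟩ := exists_isLocBasis hM x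
  rw [rk_eq_of_isLocBasis hb hx, rk_eq_of_isLocBasis (hb.of_iso e) hx]

theorem rk_structureModule (x : X) : rk (Coh.structureModule X) x = 1 := by
  rw [rk_eq_of_isLocBasis (Groth.Agent.Sga67.TensorOps.isLocBasis_one (X := X)) (show x ∈ (⊤ : X.Opens) from trivial),
    Fintype.card_fin]

theorem isFinLocFreeOfRank_structureModule : FlatMod.IsFinLocFreeOfRank 1 (Coh.structureModule X) :=
  isFinLocFreeOfRank_iff.mpr ⟨Groth.Agent.Sga67.TensorOps.isFinLocFree_structureModule, rk_structureModule⟩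

/-- Additivity of the rank. -/
theorem rk_shortExact {S : ShortComplex X.Modules} (hS : S.ShortExact) (h₁ : FlatMod.IsFinLocFree S.X₁)
    (h₃ : FlatMod.IsFinLocFree S.X₃) (x : X) : rk S.X₂ x = rk S.X₁ x + rk S.X₃ x := by
  have := hS.epi_g
  obtain ⟨U, hxU, b, hb⟩ := exists_isLocBasis h₁ x
  obtain ⟨V, hxV, c, hc⟩ := exists_isLocBasis h₃ x
  obtain ⟨W, hWV, hxW, c', hc'⟩ := exists_lifts S.g
    (fun j => res _ (inf_le_right : U ⊓ V ≤ V) (c j)) (show x ∈ U ⊓ V from ⟨hxU, hxV⟩)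
  rw [rk_eq_of_isLocBasis (isLocBasis_extension hS (hb.restrict (hWV.trans inf_le_left))
      (hc.restrict (hWV.trans inf_le_right)) c' (fun j => by rw [hc', res_res])) hxW,
    Fintype.card_sum, Fintype.card_fin, Fintype.card_fin]

/-- Multiplicativity of the rank. -/
theorem rk_tensor {M N : X.Modules} (hM : FlatMod.IsFinLocFree M) (hN : FlatMod.IsFinLocFree N) (x : X) :
    rk (CohB1.tensorMod M N) x = rk M x * rk N x := by
  obtain ⟨U, hxU, b, hb⟩ := exists_isLocBasis hM x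
  obtain ⟨V, hxV, c, hc⟩ := exists_isLocBasis hN x
  rw [rk_eq_of_isLocBasis (isLocBasis_tensor (hb.restrict (inf_le_left : U ⊓ V ≤ U))
    (hc.restrict (inf_le_right : U ⊓ V ≤ V))) (show x ∈ U ⊓ V from ⟨hxU, hxV⟩),
    Fintype.card_prod, Fintype.card_fin, Fintype.card_fin]

/-- The rank of an exterior power. -/
theorem rk_extPow {i : ℕ} {E L : X.Modules} (hE : FlatMod.IsFinLocFree E) (hL : ExtPow.IsExtPow i E L) (x : X) :
    rk L x = (rk E x).choose i := by
  obtain ⟨φ, hφ⟩ := hL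
  obtain ⟨U, hxU, b, hb⟩ := exists_isLocBasis hE x
  obtain ⟨_, ⟨W, rfl⟩, hxW, hW⟩ := Opens.isBasis_iff_nbhd.mp (affineBasis X) hxU
  rw [rk_eq_of_isLocBasis (isLocBasis_extPow φ hφ (U := W) (hb.restrict hW)) hxW,
    Fintype.card_eq_nat_card, Set.powersetCard.card, Nat.card_fin]

/-- The rank of a finite locally free module is locally constant. -/
theorem isLocallyConstant_rk {M : X.Modules} (hM : FlatMod.IsFinLocFree M) : IsLocallyConstant (rk M) := by
  rw [IsLocallyConstant.iff_exists_open]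
  intro x
  obtain ⟨U, hxU, b, hb⟩ := exists_isLocBasis hM x
  refine ⟨U, U.2, hxU, fun y hy => ?_⟩
  rw [rk_eq_of_isLocBasis hb hy, Fintype.card_fin]

/-- On a connected scheme the rank is constant. -/
theorem rk_eq_of_connected [ConnectedSpace X] {M : X.Modules} (hM : FlatMod.IsFinLocFree M) (x y : X) :
    rk M x = rk M y := (isLocallyConstant_rk hM).apply_eq_of_preconnectedSpace x y

theorem isFinLocFreeOfRank_of_connected [ConnectedSpace X] {M : X.Modules} (hM : FlatMod.IsFinLocFree M) (x : X) :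
    FlatMod.IsFinLocFreeOfRank (rk M x) M :=
  isFinLocFreeOfRank_iff.mpr ⟨hM, fun y => rk_eq_of_connected hM y x⟩

theorem exists_rank_of_connected [ConnectedSpace X] {M : X.Modules} (hM : FlatMod.IsFinLocFree M) :
    ∃ n, FlatMod.IsFinLocFreeOfRank n M :=
  ⟨_, isFinLocFreeOfRank_of_connected hM (Classical.arbitrary X)⟩

theorem rank_unique [Nonempty X] {n m : ℕ} {M : X.Modules} (h : FlatMod.IsFinLocFreeOfRank n M)
    (h' : FlatMod.IsFinLocFreeOfRank m M) : n = m := by
  rw [← rk_of_rank h (Classical.arbitrary X), ← rk_of_rank h' (Classical.arbitrary X)]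

theorem rank_iso {n : ℕ} {M N : X.Modules} (e : M ≅ N) (h : FlatMod.IsFinLocFreeOfRank n M) :
    FlatMod.IsFinLocFreeOfRank n N := by
  rw [isFinLocFreeOfRank_iff] at h ⊢
  exact ⟨isFinLocFree_of_iso e h.1, fun x => (rk_iso e h.1 x).symm.trans (h.2 x)⟩

theorem rank_shortExact {n m : ℕ} {S : ShortComplex X.Modules} (hS : S.ShortExact)
    (h₁ : FlatMod.IsFinLocFreeOfRank n S.X₁) (h₃ : FlatMod.IsFinLocFreeOfRank m S.X₃) :
    FlatMod.IsFinLocFreeOfRank (n + m) S.X₂ := by
  rw [isFinLocFreeOfRank_iff] at h₁ h₃ ⊢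
  exact ⟨isFinLocFree_of_shortExact hS h₁.1 h₃.1, fun x => by rw [rk_shortExact hS h₁.1 h₃.1, h₁.2, h₃.2]⟩

theorem rank_tensor {n m : ℕ} {M N : X.Modules} (hM : FlatMod.IsFinLocFreeOfRank n M)
    (hN : FlatMod.IsFinLocFreeOfRank m N) : FlatMod.IsFinLocFreeOfRank (n * m) (CohB1.tensorMod M N) := by
  rw [isFinLocFreeOfRank_iff] at hM hN ⊢
  exact ⟨isFinLocFree_tensorMod hM.1 hN.1, fun x => by rw [rk_tensor hM.1 hN.1, hM.2, hN.2]⟩

theorem rank_extPow {n i : ℕ} {E L : X.Modules} (hE : FlatMod.IsFinLocFreeOfRank n E)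
    (hL : ExtPow.IsExtPow i E L) : FlatMod.IsFinLocFreeOfRank (n.choose i) L := by
  rw [isFinLocFreeOfRank_iff] at hE ⊢
  exact ⟨isFinLocFree_of_isExtPow hE.1 hL, fun x => by rw [rk_extPow hE.1 hL, hE.2]⟩

/-- A finite locally free module of rank zero is zero. -/
theorem isZero_of_rank_zero {M : X.Modules} (h : FlatMod.IsFinLocFreeOfRank 0 M) : IsZero M := by
  rw [isFinLocFreeOfRank_iff'] at h
  rw [IsZero.iff_id_eq_zero]
  apply hom_ext_of_locally
  intro x U hx
  obtain ⟨V, hxV, b, hb⟩ := h x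
  refine ⟨U ⊓ V, inf_le_left, ⟨hx, hxV⟩, fun s => ?_⟩
  obtain ⟨a, rfl⟩ := (hb (U ⊓ V) inf_le_right).2 s
  rw [comb_apply, Finset.univ_eq_empty, Finset.sum_empty, map_zero, map_zero]

/-- The direct sum. -/
theorem shortExact_biprod (M N : X.Modules) :
    (ShortComplex.mk (biprod.inl : M ⟶ M ⊞ N) (biprod.snd : M ⊞ N ⟶ N) biprod.inl_snd).ShortExact :=
  (ShortComplex.Splitting.ofHasBinaryBiproduct M N).shortExact

theorem isFinLocFree_biprod {M N : X.Modules} (hM : FlatMod.IsFinLocFree M) (hN : FlatMod.IsFinLocFree N) :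
    FlatMod.IsFinLocFree (M ⊞ N) := isFinLocFree_of_shortExact (shortExact_biprod M N) hM hN

theorem rank_biprod {n m : ℕ} {M N : X.Modules} (hM : FlatMod.IsFinLocFreeOfRank n M)
    (hN : FlatMod.IsFinLocFreeOfRank m N) : FlatMod.IsFinLocFreeOfRank (n + m) (M ⊞ N) :=
  rank_shortExact (shortExact_biprod M N) hM hN

end Groth.Agent.Krr.H495.Rank
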