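import Groth.Agent.Krr.H495.ExtSemi

/-!
# Exterior powers of free modules and change of rings
-/

set_option autoImplicit false

namespace Groth.Agent.Krr.H495.ExtFree

open Groth.Agent.Krr.H495.ExtSemi

variable {A B : Type*} [CommRing A] [CommRing B]

/-- The semilinear map `A^κ → B^κ` induced by a ring homomorphism. -/
def piMap (ρ : A →+* B) (κ : Type*) : (κ → A) →ₛₗ[ρ] (κ → B) where
  toFun v k := ρ (v k)
  map_add' v w := by
    funext k
    exact map_add ρ _ _
  map_smul' a v := by
    funext k
    exact map_mul ρ _ _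

theorem piMap_apply (ρ : A →+* B) (κ : Type*) (v : κ → A) (k : κ) : piMap ρ κ v k = ρ (v k) := rfl

variable (A) in
/-- The standard basis of `Λ^i(A^n)`. -/
noncomputable abbrev bE (n i : ℕ) : Module.Basis (Set.powersetCard (Fin n) i) A (⋀[A]^i (Fin n → A)) :=
  (Pi.basisFun A (Fin n)).exteriorPower i

theorem extS_bE (ρ : A →+* B) (n i : ℕ) (J : Set.powersetCard (Fin n) i) :
    extS i (piMap ρ (Fin n)) (bE A n i J) = bE B n i J := by
  rw [bE, bE, exteriorPower.basis_apply, exteriorPower.basis_apply, exteriorPower.ιMulti_family,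
    exteriorPower.ιMulti_family, extS_ιMulti]
  congr 1
  funext j
  funext k
  rw [piMap_apply, Function.comp_apply, Function.comp_apply, Pi.basisFun_apply, Pi.basisFun_apply,
    Pi.single_apply, Pi.single_apply]
  split_ifs
  · exact map_one ρ
  · exact map_zero ρ

theorem coord_extS (ρ : A →+* B) (n i : ℕ) (I : Set.powersetCard (Fin n) i) (y : ⋀[A]^i (Fin n → A)) :
    (bE B n i).coord I (extS i (piMap ρ (Fin n)) y) = ρ ((bE A n i).coord I y) := by
  conv_lhs => rw [← (bE A n i).sum_repr y]
  rw [map_sum, map_sum]
  have h : ∀ J, (bE B n i).coord I (extS i (piMap ρ (Fin n)) ((bE A n i).repr y J • bE A n i J)) =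
      if J = I then ρ ((bE A n i).repr y J) else 0 := by
    intro J
    rw [LinearMap.map_smulₛₗ, extS_bE, map_smul, Module.Basis.coord_apply, Module.Basis.repr_self,
      Finsupp.single_apply]
    split_ifs with hJ
    · rw [smul_eq_mul, mul_one]
    · rw [smul_zero]
  simp only [h]
  rw [Finset.sum_ite_eq' Finset.univ I]
  simp

/-- The combination map `A^n → M` attached to a family. -/
noncomputable def tM {M : Type*} [AddCommGroup M] [Module A M] {n : ℕ} (e : Fin n → M) :
    (Fin n → A) →ₗ[A] M := (Pi.basisFun A (Fin n)).constr ℕ e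

theorem tM_basis {M : Type*} [AddCommGroup M] [Module A M] {n : ℕ} (e : Fin n → M) (k : Fin n) :
    tM (A := A) e (Pi.basisFun A (Fin n) k) = e k := Module.Basis.constr_basis _ _ _ _

theorem tM_apply {M : Type*} [AddCommGroup M] [Module A M] {n : ℕ} (e : Fin n → M) (v : Fin n → A) :
    tM (A := A) e v = ∑ k, v k • e k := by
  rw [tM, Module.Basis.constr_apply_fintype]
  simp

/-- If `s : M → A^n` and the family `e` satisfy `∑ s(m)_k e_k = m`, then the elements of `Λ^i M` are the combinations of
the `e_I` with the coordinates of their images under `Λ^i s`. -/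
theorem sum_coord_smul {M : Type*} [AddCommGroup M] [Module A M] {n : ℕ} (e : Fin n → M)
    (s : M →ₗ[A] (Fin n → A)) (h : ∀ m, ∑ k, s m k • e k = m) (i : ℕ) (x : ⋀[A]^i M) :
    ∑ I, (bE A n i).coord I (exteriorPower.map i s x) • exteriorPower.ιMulti_family A i e I = x := by
  have h1 : (tM e).comp s = LinearMap.id := by
    ext m
    rw [LinearMap.comp_apply, tM_apply, h, LinearMap.id_apply]
  have h2 : exteriorPower.map i (tM (A := A) e) (exteriorPower.map i s x) = x := by
    have := LinearMap.congr_fun (exteriorPower.map_comp (n := i) s (tM (A := A) e)) x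
    rw [LinearMap.comp_apply] at this
    rw [← this, h1, exteriorPower.map_id, LinearMap.id_apply]
  conv_rhs => rw [← h2, ← (bE A n i).sum_repr (exteriorPower.map i s x), map_sum]
  refine Finset.sum_congr rfl fun I _ => ?_
  rw [map_smul, Module.Basis.coord_apply]
  congr 1
  rw [bE, exteriorPower.basis_apply, exteriorPower.map_apply_ιMulti_family]
  congr 1
  funext k
  exact (tM_basis e k).symm

end Groth.Agent.Krr.H495.ExtFree
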