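import Groth.Agent.Krr.H495.ExtPre
import Groth.Agent.Krr.H495.ExtFree
import Groth.Agent.Sga67.LocBasisOps
import Groth.Agent.CohqB.HomPost

/-!
# Existence of exterior powers of finite locally free modules

`exists_isExtPow`: for every finite locally free `E` and every `i` there is a finite locally free `L` with
`ExtPow.IsExtPow i E L`.
-/

set_option autoImplicit false

universe u

open CategoryTheory CategoryTheory.Limits AlgebraicGeometry Opposite TopologicalSpace
open Groth.Agent.Sga67.Sec
open Groth.Agent.Krr.H495.ExtSemi Groth.Agent.Krr.H495.Retract Groth.Agent.Krr.H495.ExtPre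
open Groth.Agent.Krr.H495.ExtFree
open Groth.Agent.CohqB.HomSheaf (homSheaf comp)

namespace Groth.Agent.Krr.H495.ExtExist

variable {X : Scheme.{u}}

/-- Functional coordinates of a finite locally free module over an affine open. -/
theorem exists_coord {E : X.Modules} (hE : FlatMod.IsFinLocFree E) {U : X.Opens} (hU : IsAffineOpen U) :
    ∃ (n : ℕ) (e : Fin n → Sec E U) (s : ∀ V : X.Opens, V ≤ U → (Sec E V →ₗ[Γ(X, V)] (Fin n → Γ(X, V)))),
      (∀ (V W : X.Opens) (hV : V ≤ U) (h : W ≤ V) (m : Sec E V) (k : Fin n),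
        s W (h.trans hV) (res E h m) k = resO X h (s V hV m k)) ∧
      (∀ (V : X.Opens) (hV : V ≤ U) (m : Sec E V), ∑ k, s V hV m k • res E hV (e k) = m) := by
  have hq : Coh.IsQCoh E := Groth.Agent.Ega4dA.FrameQC.isQCoh_of_isFinLocFree hE
  obtain ⟨h1, h2⟩ := Groth.Agent.CohqB.HomPost.projective_sections hE hU
  obtain ⟨n, t, ht⟩ := Module.Finite.exists_fin' Γ(X, U) Γ(E, U)
  obtain ⟨s, hs⟩ := Module.projective_lifting_property t LinearMap.id ht
  choose σ hσ using fun k : Fin n => Groth.Agent.CohqB.HomSheaf.exists_comp_eq (N := Coh.structureModule X) hq hU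
    (show Γ(E, U) →ₗ[Γ(X, U)] Γ(Coh.structureModule X, U) from (LinearMap.proj k).comp s)
  let e : Fin n → Sec E U := fun k => t (Pi.single k 1)
  have hts : ∀ m : Γ(E, U), ∑ k, s m k • e k = m := by
    intro m
    have h3 : s m = ∑ k, s m k • (Pi.single k (1 : Γ(X, U)) : Fin n → Γ(X, U)) := by
      ext j
      simp [Pi.single_apply]
    have h4 : t (s m) = m := LinearMap.congr_fun hs m
    conv_rhs => rw [← h4, h3]
    refine Eq.trans ?_ (map_sum t _ _).symm
    refine Finset.sum_congr rfl fun k _ => ?_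
    exact (map_smul t _ _).symm
  have hnat : ∀ (V W : X.Opens) (hV : V ≤ U) (h : W ≤ V) (m : Sec E V) (k : Fin n),
        (show Γ(X, W) from comp (σ k) W (h.trans hV) (res E h m)) =
          resO X h (show Γ(X, V) from comp (σ k) V hV m) := by
    intro V W hV h m k
    exact Groth.Agent.CohqB.HomSheaf.comp_map (σ k) hV h m
  -- the endomorphism `∑ σ_k ⊗ e_k`
  let f : ∀ V : X.Opens, V ≤ U → (Sec E V →ₗ[Γ(X, V)] Sec E V) := fun V hV =>
    ∑ k, LinearMap.smulRight (show Sec E V →ₗ[Γ(X, V)] Γ(X, V) from comp (σ k) V hV) (res E hV (e k))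
  have hf : ∀ (V : X.Opens) (hV : V ≤ U) (m : Sec E V),
      f V hV m = ∑ k, (show Γ(X, V) from comp (σ k) V hV m) • res E hV (e k) := by
    intro V hV m
    refine (LinearMap.sum_apply _ _ _).trans ?_
    exact Finset.sum_congr rfl fun k _ => rfl
  have hfn : ∀ (V W : X.Opens) (hV : V ≤ U) (h : W ≤ V) (m : Sec E V),
      f W (h.trans hV) (res E h m) = res E h (f V hV m) := by
    intro V W hV h m
    rw [hf, hf, map_sum]
    refine Finset.sum_congr rfl fun k _ => ?_
    rw [hnat, res_smul, res_res]
  let τ : Γ(homSheaf E E, U) := Groth.Agent.CohqB.HomSheaf.mkSec (fun V hV => f V hV)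
    (fun V W hV h m => hfn V W hV h m)
  have hτ : τ = Groth.Agent.CohqB.HomSheaf.ofHom (𝟙 E) U := by
    apply Groth.Agent.CohqB.HomSheaf.comp_injective hq hU
    intro m
    change f U le_rfl m = m
    rw [hf]
    refine Eq.trans (Finset.sum_congr rfl fun k _ => ?_) (hts m)
    rw [res_self]
    congr 1
    have := LinearMap.congr_fun (hσ k) m
    exact this
  refine ⟨n, e, fun V hV => LinearMap.pi fun k => (show Sec E V →ₗ[Γ(X, V)] Γ(X, V) from comp (σ k) V hV), ?_, ?_⟩
  · intro V W hV h m k
    exact hnat V W hV h m k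
  · intro V hV m
    have h5 : comp τ V hV m = m := by
      rw [hτ]
      rfl
    have h6 : comp τ V hV m = f V hV m := rfl
    rw [h6, hf] at h5
    exact h5

/-- A dual basis of the presheaf of exterior powers over an affine open. -/
theorem nonempty_dualBasis {E : X.Modules} (hE : FlatMod.IsFinLocFree E) {U : X.Opens} (hU : IsAffineOpen U)
    (i : ℕ) : ∃ n : ℕ, Nonempty (DualBasis (extPre i E) U (Set.powersetCard (Fin n) i)) := by
  obtain ⟨n, e, s, hs, hsum⟩ := exists_coord hE hU
  refine ⟨n, ⟨?_⟩⟩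
  refine
    { w := fun I => toPre i E U (exteriorPower.ιMulti_family Γ(X, U) i e I)
      c := fun I V hV => ((bE Γ(X, V) n i).coord I ∘ₗ exteriorPower.map i (s V hV)) ∘ₗ
        (toPre i E V).symm.toLinearMap
      nat := ?_
      sum := ?_ }
  · intro I V W hV h x
    obtain ⟨x, rfl⟩ := (toPre i E V).surjective x
    rw [pres_toPre]
    simp only [LinearMap.comp_apply, LinearEquiv.coe_coe, LinearEquiv.symm_apply_apply]
    rw [← extS_linear, ← extS_linear, ← coord_extS (resO X h)]
    congr 1
    have h1 : ((s W (h.trans hV)).comp (resS E h) : Sec E V →ₛₗ[resO X h] (Fin n → Γ(X, W))) =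
        (piMap (resO X h) (Fin n)).comp (s V hV) := by
      ext m k
      exact hs V W hV h m k
    exact (extS_extS i (resS E h) (s W (h.trans hV)) x).trans
      ((congrArg (fun g => extS i g x) h1).trans (extS_extS i (s V hV) (piMap (resO X h) (Fin n)) x).symm)
  · intro V hV x
    obtain ⟨x, rfl⟩ := (toPre i E V).surjective x
    simp only [LinearMap.comp_apply, LinearEquiv.coe_coe, LinearEquiv.symm_apply_apply]
    have h1 := sum_coord_smul (fun k => res E hV (e k)) (s V hV) (hsum V hV) i x
    conv_rhs => rw [← h1, map_sum]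
    refine Finset.sum_congr rfl fun I _ => ?_
    rw [map_smul, pres_toPre]
    congr 2
    rw [exteriorPower.ιMulti_family, exteriorPower.ιMulti_family, eres_ιMulti]
    rfl

/-- The map `Λ^i E(U) → (Λ^i E)(U)` is bijective for affine `U`. -/
theorem bijective_eta' {E : X.Modules} (hE : FlatMod.IsFinLocFree E) {U : X.Opens} (hU : IsAffineOpen U)
    (i : ℕ) : Function.Bijective (eta' i E U) := by
  obtain ⟨n, ⟨D⟩⟩ := nonempty_dualBasis hE hU i
  exact D.bijective.comp (toPre i E U).bijective

/-- The sheaf `Λ^i E` is an `i`-th exterior power of the finite locally free module `E`. -/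
theorem isExtPow_ext {E : X.Modules} (hE : FlatMod.IsFinLocFree E) (i : ℕ) :
    ExtPow.IsExtPow i E (ext i E) := by
  refine ⟨fun U => (LinearEquiv.ofBijective (eta' i E U.1) (bijective_eta' hE U.2 i)).symm, ?_⟩
  intro U V h e
  rw [LinearEquiv.symm_symm, LinearEquiv.symm_symm, LinearEquiv.ofBijective_apply, LinearEquiv.ofBijective_apply]
  have h1 := eta'_eres i E h (exteriorPower.ιMulti _ i e)
  rw [eres_ιMulti] at h1
  exact h1.symm

/-- Existence of exterior powers of finite locally free modules. -/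
theorem exists_isExtPow (i : ℕ) (E : X.Modules) (hE : FlatMod.IsFinLocFree E) :
    ∃ L : X.Modules, FlatMod.IsFinLocFree L ∧ ExtPow.IsExtPow i E L :=
  ⟨ext i E, Groth.Agent.Sga67.LocBasis.isFinLocFree_of_isExtPow hE (isExtPow_ext hE i), isExtPow_ext hE i⟩

end Groth.Agent.Krr.H495.ExtExist
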