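import Groth.Agent.Krr.H495.Rank
import Groth.Agent.Krr.H495.ExtExist
import Groth.Agent.Sga67.KvbRing
import Groth.Agent.Grpsch.PicGrp
import Groth.Agent.Ega2.QCohLocal
import Groth.Prelude.Def_KRR

/-!
# The λ-ring K(X) with its positive structure

For a scheme `X` (any) the ring `KR X` of `Groth.Agent.Sga67.KvbRing` is a λ-ring (`lambdaOps X`); for `X` connected it
carries a positive structure (`pos X`) with augmentation the rank, and `isModel X : KRR.IsModel X (KR X) (pos X) (toKR X)`.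
-/

set_option autoImplicit false

universe u

open CategoryTheory CategoryTheory.Limits AlgebraicGeometry Opposite TopologicalSpace
open Groth.Agent.Sga67.Sec Groth.Agent.Sga67.LocBasis Groth.Agent.Sga67.KvbRing
open Groth.Agent.Krr.H495.Rank

namespace Groth.Agent.Krr.H495.Model

variable (X : Scheme.{u})

theorem hext : ∀ (i : ℕ) (E : X.Modules), FlatMod.IsFinLocFree E →
    ∃ L : X.Modules, FlatMod.IsFinLocFree L ∧ ExtPow.IsExtPow i E L :=
  Groth.Agent.Krr.H495.ExtExist.exists_isExtPow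

/-- The λ-operations on `Kvb X`. -/
noncomputable def lamK : ℕ → SGA6.Kvb X → SGA6.Kvb X := (exists_lambda (hext X)).choose

theorem lamK_spec : SGA6.IsLambdaStructureVb X (mul X) (lamK X) := (exists_lambda (hext X)).choose_spec

theorem lamK_c (i : ℕ) (E L : X.Modules) (hE : FlatMod.IsFinLocFree E) (hL : ExtPow.IsExtPow i E L) :
    lamK X i (c E) = c L := (lamK_spec X).2.2.2.2.1 i E L hE hL

/-- The λ-ring structure on `KR X`. -/
noncomputable instance lambdaOps : LambdaRing.LambdaOps (KR X) where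
  lam i x := toKR X (lamK X i ((toKR X).symm x))
  lam_zero x := (lamK_spec X).2.2.2.2.2.1 ((toKR X).symm x)
  lam_one x := (lamK_spec X).2.2.2.2.2.2.1 ((toKR X).symm x)
  lam_add k x y := by
    rw [map_add, (lamK_spec X).2.2.2.2.2.2.2 k, map_sum]
    rfl

theorem lam_toKR (i : ℕ) (E L : X.Modules) (hE : FlatMod.IsFinLocFree E) (hL : ExtPow.IsExtPow i E L) :
    LambdaRing.LambdaOps.lam i (toKR X (c E)) = toKR X (c L) := by
  change toKR X (lamK X i (c E)) = _
  rw [lamK_c X i E L hE hL]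

theorem toKR_c_mul {E F : X.Modules} (hE : FlatMod.IsFinLocFree E) (hF : FlatMod.IsFinLocFree F) :
    toKR X (c E) * toKR X (c F) = toKR X (c (CohB1.tensorMod E F)) := by
  rw [← toKR_mul, mul_c _ _ hE hF]

theorem toKR_c_add {E F : X.Modules} (hE : FlatMod.IsFinLocFree E) (hF : FlatMod.IsFinLocFree F) :
    toKR X (c E) + toKR X (c F) = toKR X (c (E ⊞ F)) := by
  rw [← map_add, ← c_ses (shortExact_biprod E F) hE (isFinLocFree_biprod hE hF) hF]

/-! ### The rank homomorphism -/

/-- The rank at the point `x`, as a homomorphism `Kvb X →+ ℤ`. -/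
noncomputable def rkAdd (x : X) : SGA6.Kvb X →+ ℤ :=
  lift (fun E => (rk E.1 x : ℤ)) (fun S h₁ h₂ h₃ hS => by
    rw [rk_shortExact hS h₁ h₃ x, Nat.cast_add])

theorem rkAdd_c (x : X) (E : X.Modules) (hE : FlatMod.IsFinLocFree E) : rkAdd X x (c E) = rk E x :=
  lift_c _ _ E hE

theorem rkAdd_mul (x : X) (y z : SGA6.Kvb X) : rkAdd X x (mul X y z) = rkAdd X x y * rkAdd X x z := by
  have h : (AddMonoidHom.compHom (rkAdd X x)).comp (mul X) =
      ((AddMonoidHom.mul (R := ℤ)).comp (rkAdd X x)).compl₂ (rkAdd X x) := by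
    apply hom_ext'
    intro E hE
    apply hom_ext'
    intro F hF
    change rkAdd X x (mul X (c E) (c F)) = rkAdd X x (c E) * rkAdd X x (c F)
    rw [mul_c _ _ hE hF, rkAdd_c _ _ _ hE, rkAdd_c _ _ _ hF, rkAdd_c _ _ _ (isFinLocFree_tensorMod hE hF),
      rk_tensor hE hF, Nat.cast_mul]
  exact DFunLike.congr_fun (DFunLike.congr_fun h y) z

/-- The rank at the point `x`, as a ring homomorphism. -/
noncomputable def rkHom (x : X) : KR X →+* ℤ where
  toFun y := rkAdd X x ((toKR X).symm y)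
  map_zero' := map_zero (rkAdd X x)
  map_one' := by
    change rkAdd X x (c (Coh.structureModule X)) = 1
    rw [rkAdd_c X x _ Groth.Agent.Sga67.TensorOps.isFinLocFree_structureModule, rk_structureModule, Nat.cast_one]
  map_add' y z := map_add (rkAdd X x) _ _
  map_mul' y z := rkAdd_mul X x _ _

theorem rkHom_c (x : X) (E : X.Modules) (hE : FlatMod.IsFinLocFree E) : rkHom X x (toKR X (c E)) = rk E x :=
  rkAdd_c X x E hE

theorem rkHom_rank (x : X) {n : ℕ} {E : X.Modules} (hE : FlatMod.IsFinLocFreeOfRank n E) :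
    rkHom X x (toKR X (c E)) = n := by
  rw [rkHom_c X x E (isFinLocFree_of_rank hE), rk_of_rank hE]

/-! ### Positive elements -/

/-- The positive elements: classes of bundles of constant positive rank. -/
def posSet : Set (KR X) :=
  {y | ∃ (n : ℕ) (E : X.Modules), 1 ≤ n ∧ FlatMod.IsFinLocFreeOfRank n E ∧ toKR X (c E) = y}

variable {X}

theorem one_mem_posSet : (1 : KR X) ∈ posSet X :=
  ⟨1, Coh.structureModule X, le_rfl, isFinLocFreeOfRank_structureModule, rfl⟩

theorem add_mem_posSet {y z : KR X} (hy : y ∈ posSet X) (hz : z ∈ posSet X) : y + z ∈ posSet X := by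
  obtain ⟨n, E, hn, hE, rfl⟩ := hy
  obtain ⟨m, F, hm, hF, rfl⟩ := hz
  exact ⟨n + m, E ⊞ F, by omega, rank_biprod hE hF,
    (toKR_c_add X (isFinLocFree_of_rank hE) (isFinLocFree_of_rank hF)).symm⟩

theorem mul_mem_posSet {y z : KR X} (hy : y ∈ posSet X) (hz : z ∈ posSet X) : y * z ∈ posSet X := by
  obtain ⟨n, E, hn, hE, rfl⟩ := hy
  obtain ⟨m, F, hm, hF, rfl⟩ := hz
  exact ⟨n * m, CohB1.tensorMod E F, Nat.mul_pos hn hm, rank_tensor hE hF,
    (toKR_c_mul X (isFinLocFree_of_rank hE) (isFinLocFree_of_rank hF)).symm⟩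

theorem natCast_mem_posSet (n : ℕ) (hn : 0 < n) : (n : KR X) ∈ posSet X := by
  induction n with
  | zero => omega
  | succ n ih =>
    rcases Nat.eq_zero_or_pos n with rfl | h
    · rw [Nat.zero_add, Nat.cast_one]; exact one_mem_posSet
    · rw [Nat.cast_add, Nat.cast_one]
      exact add_mem_posSet (ih h) one_mem_posSet

theorem exists_sub_posSet [ConnectedSpace X] (y : KR X) :
    ∃ e f, e ∈ posSet X ∧ f ∈ posSet X ∧ y = e - f := by
  obtain ⟨y, rfl⟩ := (toKR X).surjective y
  induction y using K_induction with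
  | h0 => exact ⟨1, 1, one_mem_posSet, one_mem_posSet, by rw [map_zero, sub_self]⟩
  | hc E hE =>
    obtain ⟨n, hn⟩ := exists_rank_of_connected hE
    refine ⟨toKR X (c E) + 1, 1, ⟨n + 1, E ⊞ Coh.structureModule X, by omega,
      rank_biprod hn isFinLocFreeOfRank_structureModule, ?_⟩, one_mem_posSet, by rw [add_sub_cancel_right]⟩
    rw [← toKR_c_add X hE Groth.Agent.Sga67.TensorOps.isFinLocFree_structureModule]
    rfl
  | hneg x hx =>
    obtain ⟨e, f, he, hf, h⟩ := hx
    exact ⟨f, e, hf, he, by rw [map_neg, h, neg_sub]⟩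
  | hadd x y hx hy =>
    obtain ⟨e, f, he, hf, h⟩ := hx
    obtain ⟨e', f', he', hf', h'⟩ := hy
    exact ⟨e + e', f + f', add_mem_posSet he he', add_mem_posSet hf hf', by rw [map_add, h, h']; abel⟩

/-- The class of an invertible module is a unit. -/
theorem isUnit_of_rank_one {L : X.Modules} (hL : FlatMod.IsFinLocFreeOfRank 1 L) : IsUnit (toKR X (c L)) := by
  obtain ⟨M, hM, ⟨e⟩⟩ := Groth.Agent.Grpsch.PicGrp.exists_inverse
    (Groth.Agent.Ega2.QCohLocal.isFinLocFreeOfRank_one_iff.mp hL)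
  have hM' := isFinLocFree_of_rank (Groth.Agent.Ega2.QCohLocal.isFinLocFreeOfRank_one_iff.mpr hM)
  have hL' := isFinLocFree_of_rank hL
  apply IsUnit.of_mul_eq_one (toKR X (c M))
  rw [toKR_c_mul X hL' hM', c_iso e (isFinLocFree_tensorMod hL' hM')]
  rfl

variable (X) in
/-- The positive structure on `KR X`. -/
noncomputable def pos [ConnectedSpace X] : LambdaRing.PosStructure (KR X) where
  aug := rkHom X (Classical.arbitrary X)
  aug_surjective n := ⟨(n : KR X), map_intCast _ _⟩
  pos := posSet X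
  add_mem _ _ := add_mem_posSet
  mul_mem _ _ := mul_mem_posSet
  natCast_mem := natCast_mem_posSet
  exists_sub := exists_sub_posSet
  aug_pos := by
    rintro _ ⟨n, E, hn, hE, rfl⟩
    rw [rkHom_rank X _ hE]
    exact_mod_cast hn
  lam_eq_zero := by
    rintro _ ⟨n, E, hn, hE, rfl⟩ i hi
    rw [rkHom_rank X _ hE] at hi
    obtain ⟨L, hL, hL'⟩ := hext X i E (isFinLocFree_of_rank hE)
    rw [lam_toKR X i E L (isFinLocFree_of_rank hE) hL']
    have h0 := rank_extPow hE hL'
    rw [Nat.choose_eq_zero_of_lt (by exact_mod_cast hi)] at h0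
    exact (congrArg (toKR X) (Groth.Agent.Sga67.SesImage.clSub_zero (fun M : X.Modules => FlatMod.IsFinLocFree M)
      (isZero_of_rank_zero h0))).trans (map_zero _)
  isUnit_lam := by
    rintro _ ⟨n, E, hn, hE, rfl⟩
    rw [rkHom_rank X _ hE, Int.toNat_natCast]
    obtain ⟨L, hL, hL'⟩ := hext X n E (isFinLocFree_of_rank hE)
    rw [lam_toKR X n E L (isFinLocFree_of_rank hE) hL']
    have h0 := rank_extPow hE hL'
    rw [Nat.choose_self] at h0
    exact isUnit_of_rank_one h0

variable (X) in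
/-- `K(X)` for a connected scheme. -/
theorem isModel [ConnectedSpace X] : KRR.IsModel X (KR X) (pos X) (toKR X).toAddMonoidHom where
  bijective := (toKR X).bijective
  map_one := rfl
  map_mul _ _ hE hF := toKR_c_mul X hE hF
  map_lam i E L hE _ hL := lam_toKR X i E L hE hL
  aug_cl _ _ hE := rkHom_rank X _ hE
  mem_pos_iff _ := Iff.rfl

end Groth.Agent.Krr.H495.Model
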