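import Mathlib.LinearAlgebra.ExteriorPower.Basis

/-!
# Functoriality of exterior powers for semilinear maps
-/

set_option autoImplicit false

namespace Groth.Agent.Krr.H495.ExtSemi

variable {A B C : Type*} [CommRing A] [CommRing B] [CommRing C]
  {M N K : Type*} [AddCommGroup M] [Module A M] [AddCommGroup N] [Module B N]
  [AddCommGroup K] [Module C K]

/-- The alternating map `(m_j) ↦ g(m_1) ∧ … ∧ g(m_i)` for a semilinear map `g`. -/
noncomputable def altS (i : ℕ) {ρ : A →+* B} (g : M →ₛₗ[ρ] N) :
    letI := Module.compHom (⋀[B]^i N) ρ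
    M [⋀^Fin i]→ₗ[A] (⋀[B]^i N) :=
  letI := Module.compHom (⋀[B]^i N) ρ
  { toFun := fun m => exteriorPower.ιMulti B i (fun j => g (m j))
    map_update_add' := by
      intro _ m j x y
      have h : ∀ z : M, (fun k => g (Function.update m j z k)) = Function.update (fun k => g (m k)) j (g z) := by
        intro z
        funext k
        by_cases hk : k = j
        · subst hk; simp
        · simp [hk]
      rw [h, h, h, map_add, AlternatingMap.map_update_add]
    map_update_smul' := by
      intro _ m j a x
      have h : ∀ z : M, (fun k => g (Function.update m j z k)) = Function.update (fun k => g (m k)) j (g z) := by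
        intro z
        funext k
        by_cases hk : k = j
        · subst hk; simp
        · simp [hk]
      rw [h, h, LinearMap.map_smulₛₗ, AlternatingMap.map_update_smul]
      rfl
    map_eq_zero_of_eq' := by
      intro v j k h hjk
      exact (exteriorPower.ιMulti B i).map_eq_zero_of_eq _ (by simp only [h]) hjk }

/-- The semilinear map induced on exterior powers by a semilinear map. -/
noncomputable def extS (i : ℕ) {ρ : A →+* B} (g : M →ₛₗ[ρ] N) : ⋀[A]^i M →ₛₗ[ρ] ⋀[B]^i N :=
  letI := Module.compHom (⋀[B]^i N) ρ
  { toFun := fun x => exteriorPower.alternatingMapLinearEquiv (altS i g) x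
    map_add' := fun x y => map_add _ x y
    map_smul' := fun a x => map_smul (exteriorPower.alternatingMapLinearEquiv (altS i g)) a x }

@[simp]
theorem extS_ιMulti (i : ℕ) {ρ : A →+* B} (g : M →ₛₗ[ρ] N) (m : Fin i → M) :
    extS i g (exteriorPower.ιMulti A i m) = exteriorPower.ιMulti B i (fun j => g (m j)) := by
  letI := Module.compHom (⋀[B]^i N) ρ
  change exteriorPower.alternatingMapLinearEquiv (altS i g) (exteriorPower.ιMulti A i m) = _
  rw [exteriorPower.alternatingMapLinearEquiv_apply_ιMulti]
  rfl

/-- Semilinear maps out of an exterior power agree if they agree on decomposable elements. -/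
theorem extS_hom_ext {i : ℕ} {ρ : A →+* B} {Q : Type*} [AddCommGroup Q] [Module B Q]
    {f g : ⋀[A]^i M →ₛₗ[ρ] Q}
    (h : ∀ m : Fin i → M, f (exteriorPower.ιMulti A i m) = g (exteriorPower.ιMulti A i m)) : f = g := by
  ext x
  have hx : x ∈ Submodule.span A (Set.range (exteriorPower.ιMulti A i (M := M))) := by
    rw [exteriorPower.ιMulti_span]; trivial
  induction hx using Submodule.span_induction with
  | mem x hx => obtain ⟨e, rfl⟩ := hx; exact h e
  | zero => rw [map_zero, map_zero]
  | add x y _ _ hx hy => rw [map_add, map_add, hx, hy]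
  | smul a x _ hx => rw [LinearMap.map_smulₛₗ, LinearMap.map_smulₛₗ, hx]

theorem extS_id (i : ℕ) : extS i (LinearMap.id : M →ₗ[A] M) = LinearMap.id := by
  apply extS_hom_ext
  intro m
  rw [extS_ιMulti]
  rfl

theorem extS_extS (i : ℕ) {ρ : A →+* B} {σ : B →+* C} {τ : A →+* C} [RingHomCompTriple ρ σ τ]
    (g : M →ₛₗ[ρ] N) (g' : N →ₛₗ[σ] K) (x : ⋀[A]^i M) :
    extS i g' (extS i g x) = extS i (g'.comp g) x := by
  have : (extS i g').comp (extS i g) = extS i (g'.comp g) := by
    apply extS_hom_ext
    intro m
    rw [LinearMap.comp_apply, extS_ιMulti, extS_ιMulti, extS_ιMulti]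
    rfl
  exact LinearMap.congr_fun this x

/-- For a linear map, `extS` is the usual functoriality. -/
theorem extS_linear (i : ℕ) {N' : Type*} [AddCommGroup N'] [Module A N'] (g : M →ₗ[A] N') :
    extS i g = exteriorPower.map i g := by
  apply extS_hom_ext
  intro m
  rw [extS_ιMulti]
  exact (exteriorPower.map_apply_ιMulti g m).symm

end Groth.Agent.Krr.H495.ExtSemi
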