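import Groth.Agent.Krr.H495.Retract
import Groth.Agent.Krr.H495.ExtSemi

/-!
# The presheaf of exterior powers of an O_X-module
-/

set_option autoImplicit false

universe u

open CategoryTheory CategoryTheory.Limits AlgebraicGeometry Opposite TopologicalSpace
open Groth.Agent.Sga67.Sec
open Groth.Agent.Krr.H495.ExtSemi Groth.Agent.Krr.H495.Retract

namespace Groth.Agent.Krr.H495.ExtPre

variable {X : Scheme.{u}}

/-- Restriction of sections as a semilinear map. -/
noncomputable def resS (E : X.Modules) {U V : X.Opens} (h : V ≤ U) : Sec E U →ₛₗ[resO X h] Sec E V where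
  toFun := res E h
  map_add' := map_add _
  map_smul' := res_smul E h

theorem resS_apply (E : X.Modules) {U V : X.Opens} (h : V ≤ U) (s : Sec E U) : resS E h s = res E h s := rfl

/-- Restriction on exterior powers of sections. -/
noncomputable def eres (i : ℕ) (E : X.Modules) {U V : X.Opens} (h : V ≤ U) :
    ⋀[Γ(X, U)]^i (Sec E U) →ₛₗ[resO X h] ⋀[Γ(X, V)]^i (Sec E V) := extS i (resS E h)

@[simp]
theorem eres_ιMulti (i : ℕ) (E : X.Modules) {U V : X.Opens} (h : V ≤ U) (e : Fin i → Sec E U) :
    eres i E h (exteriorPower.ιMulti _ i e) = exteriorPower.ιMulti _ i (fun j => res E h (e j)) :=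
  extS_ιMulti i _ _

theorem eres_self (i : ℕ) (E : X.Modules) {U : X.Opens} (h : U ≤ U) (x : ⋀[Γ(X, U)]^i (Sec E U)) :
    eres i E h x = x := by
  have hx : x ∈ Submodule.span Γ(X, U) (Set.range (exteriorPower.ιMulti Γ(X, U) i (M := Sec E U))) := by
    rw [exteriorPower.ιMulti_span]; trivial
  induction hx using Submodule.span_induction with
  | mem x hx =>
    obtain ⟨e, rfl⟩ := hx
    rw [eres_ιMulti]
    congr 1
    funext j
    exact res_self E h _
  | zero => rw [map_zero]
  | add x y _ _ hx hy => rw [map_add, hx, hy]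
  | smul a x _ hx => rw [LinearMap.map_smulₛₗ, hx, resO_self]

theorem eres_eres (i : ℕ) (E : X.Modules) {U V W : X.Opens} (h : V ≤ U) (h' : W ≤ V)
    (x : ⋀[Γ(X, U)]^i (Sec E U)) : eres i E h' (eres i E h x) = eres i E (h'.trans h) x := by
  have hx : x ∈ Submodule.span Γ(X, U) (Set.range (exteriorPower.ιMulti Γ(X, U) i (M := Sec E U))) := by
    rw [exteriorPower.ιMulti_span]; trivial
  induction hx using Submodule.span_induction with
  | mem x hx =>
    obtain ⟨e, rfl⟩ := hx
    rw [eres_ιMulti, eres_ιMulti, eres_ιMulti]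
    congr 1
    funext j
    exact res_res E h h' _
  | zero => rw [map_zero, map_zero, map_zero]
  | add x y _ _ hx hy => rw [map_add, map_add, map_add, hx, hy]
  | smul a x _ hx =>
    have h1 := (eres i E h).map_smulₛₗ a x
    have h2 := (eres i E h').map_smulₛₗ (resO X h a) (eres i E h x)
    have h3 := (eres i E (h'.trans h)).map_smulₛₗ a x
    rw [h1, h2, h3, hx, resO_resO]

/-- The presheaf of abelian groups `U ↦ Λ^i E(U)`. -/
noncomputable def extAb (i : ℕ) (E : X.Modules) : TopCat.Presheaf AddCommGrpCat.{u} X where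
  obj U := AddCommGrpCat.of (⋀[Γ(X, U.unop)]^i (Sec E U.unop))
  map {U V} f := AddCommGrpCat.ofHom (eres i E f.unop.le).toAddMonoidHom
  map_id U := by
    ext x
    exact congrArg Subtype.val (eres_self i E le_rfl x)
  map_comp {U V W} f g := by
    ext x
    exact congrArg Subtype.val (eres_eres i E f.unop.le g.unop.le x).symm

set_option backward.isDefEq.respectTransparency false in
noncomputable instance (i : ℕ) (E : X.Modules) (U : (Opens X)ᵒᵖ) :
    Module ((X.sheaf.obj ⋙ forget₂ CommRingCat RingCat.{u}).obj U) ((extAb i E).obj U) :=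
  inferInstanceAs (Module Γ(X, U.unop) (⋀[Γ(X, U.unop)]^i (Sec E U.unop)))

/-- The presheaf of modules `U ↦ Λ^i E(U)`. -/
noncomputable def extPre (i : ℕ) (E : X.Modules) : CohB1.PMod X :=
  PresheafOfModules.ofPresheaf (R := X.sheaf.obj ⋙ forget₂ CommRingCat RingCat.{u}) (extAb i E) (by
    intro U V f r x
    exact (eres i E f.unop.le).map_smulₛₗ r x)

/-- Sections of `extPre`. -/
noncomputable def toPre (i : ℕ) (E : X.Modules) (U : X.Opens) :
    ⋀[Γ(X, U)]^i (Sec E U) ≃ₗ[Γ(X, U)] PSec (extPre i E) U where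
  toFun x := x
  invFun x := x
  left_inv _ := rfl
  right_inv _ := rfl
  map_add' _ _ := rfl
  map_smul' _ _ := rfl

theorem pres_toPre (i : ℕ) (E : X.Modules) {U V : X.Opens} (h : V ≤ U) (x : ⋀[Γ(X, U)]^i (Sec E U)) :
    pres (extPre i E) h (toPre i E U x) = toPre i E V (eres i E h x) := rfl

/-- The sheaf `Λ^i E`. -/
noncomputable def ext (i : ℕ) (E : X.Modules) : X.Modules := (CohB1.sheafifyMod X).obj (extPre i E)

/-- The map `Λ^i E(U) → (Λ^i E)(U)`. -/
noncomputable def eta' (i : ℕ) (E : X.Modules) (U : X.Opens) :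
    ⋀[Γ(X, U)]^i (Sec E U) →ₗ[Γ(X, U)] Sec (ext i E) U :=
  (papp (eta (extPre i E)) U).comp (toPre i E U).toLinearMap

theorem eta'_eres (i : ℕ) (E : X.Modules) {U V : X.Opens} (h : V ≤ U) (x : ⋀[Γ(X, U)]^i (Sec E U)) :
    eta' i E V (eres i E h x) = res (ext i E) h (eta' i E U x) :=
  papp_pres (eta (extPre i E)) h (toPre i E U x)

end Groth.Agent.Krr.H495.ExtPre
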