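import Groth.Agent.Sga67.Sec

/-!
# Presheaves of modules with a finite dual basis over an open

If a presheaf of modules `P` on a scheme is, over the open `U`, a retract of a finite free module (`DualBasis P U κ`),
then the sections of `P` over `U` are the sections over `U` of the associated sheaf (`DualBasis.bijective`).
-/

set_option autoImplicit false

universe u

open CategoryTheory CategoryTheory.Limits AlgebraicGeometry Opposite TopologicalSpace
open Groth.Agent.Sga67.Sec

namespace Groth.Agent.Krr.H495.Retract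

variable {X : Scheme.{u}}

/-- A finite dual basis of the presheaf of modules `P` over the open `U`. -/
structure DualBasis (P : CohB1.PMod X) (U : X.Opens) (κ : Type*) [Fintype κ] where
  /-- the generators -/
  w : κ → PSec P U
  /-- the coordinate functions -/
  c : κ → ∀ V : X.Opens, V ≤ U → (PSec P V →ₗ[Γ(X, V)] Γ(X, V))
  nat : ∀ (k : κ) (V W : X.Opens) (hV : V ≤ U) (h : W ≤ V) (x : PSec P V),
    c k W (h.trans hV) (pres P h x) = resO X h (c k V hV x)
  sum : ∀ (V : X.Opens) (hV : V ≤ U) (x : PSec P V), ∑ k, c k V hV x • pres P hV (w k) = x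

variable {P : CohB1.PMod X} {U : X.Opens} {κ : Type*} [Fintype κ]

/-- Restriction of a dual basis to a smaller open. -/
noncomputable def DualBasis.restrict (D : DualBasis P U κ) {V : X.Opens} (h : V ≤ U) : DualBasis P V κ where
  w k := pres P h (D.w k)
  c k W hW := D.c k W (hW.trans h)
  nat k W W' hW h' x := D.nat k W W' (hW.trans h) h' x
  sum W hW x := by
    conv_rhs => rw [← D.sum W (hW.trans h) x]
    refine Finset.sum_congr rfl fun k _ => ?_
    rw [pres_pres]

/-- Sections of `P` that are locally equal are equal. -/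
theorem DualBasis.eq_of_locally (D : DualBasis P U κ) {x y : PSec P U}
    (H : ∀ z ∈ U, ∃ (V : X.Opens) (h : V ≤ U), z ∈ V ∧ pres P h x = pres P h y) : x = y := by
  rw [← D.sum U le_rfl x, ← D.sum U le_rfl y]
  refine Finset.sum_congr rfl fun k _ => ?_
  congr 1
  apply eqO_of_locally
  intro z hz
  obtain ⟨V, h, hzV, e⟩ := H z hz
  refine ⟨V, h, hzV, ?_⟩
  rw [← D.nat, ← D.nat, e]

theorem DualBasis.injective (D : DualBasis P U κ) : Function.Injective (papp (eta P) U) := by
  rw [← LinearMap.ker_eq_bot, LinearMap.ker_eq_bot']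
  intro x hx
  apply D.eq_of_locally
  intro z hz
  obtain ⟨V, h, hzV, e⟩ := eta_locinj P x hx z hz
  exact ⟨V, h, hzV, by rw [e, map_zero]⟩

theorem DualBasis.surjective (D : DualBasis P U κ) : Function.Surjective (papp (eta P) U) := by
  intro t
  choose V hV hzV y hy using fun z : U => eta_locsurj P t z.1 z.2
  have hcompat : ∀ (a b : U) (k : κ),
      resO X (inf_le_left : V a ⊓ V b ≤ V a) (D.c k (V a) (hV a) (y a)) =
        resO X (inf_le_right : V a ⊓ V b ≤ V b) (D.c k (V b) (hV b) (y b)) := by
    intro a b k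
    have h1 : pres P (inf_le_left : V a ⊓ V b ≤ V a) (y a) = pres P (inf_le_right : V a ⊓ V b ≤ V b) (y b) := by
      apply (D.restrict (inf_le_left.trans (hV a))).injective
      rw [papp_pres, papp_pres, hy, hy]
      exact (res_res _ _ _ _).trans (res_res _ _ _ _).symm
    rw [← D.nat k _ _ (hV a), ← D.nat k _ _ (hV b), h1]
  have hglue : ∀ k : κ, ∃ a : Γ(X, U), ∀ z : U, resO X (hV z) a = D.c k (V z) (hV z) (y z) := by
    intro k
    obtain ⟨a, ha, -⟩ := TopCat.Sheaf.existsUnique_gluing' X.sheaf (fun z : U => V z) U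
      (fun z => homOfLE (hV z)) (by
        intro z hz
        exact Opens.mem_iSup.mpr ⟨⟨z, hz⟩, hzV ⟨z, hz⟩⟩) (fun z => D.c k (V z) (hV z) (y z))
      (fun a b => hcompat a b k)
    exact ⟨a, fun z => ha z⟩
  choose a ha using hglue
  refine ⟨∑ k, a k • D.w k, ?_⟩
  apply Groth.Agent.Sga67.Sec.eq_of_locally
  intro z hz
  refine ⟨V ⟨z, hz⟩, hV ⟨z, hz⟩, hzV ⟨z, hz⟩, ?_⟩
  refine (papp_pres (eta P) (hV ⟨z, hz⟩) _).symm.trans (Eq.trans ?_ (hy ⟨z, hz⟩))
  congr 1
  conv_rhs => rw [← D.sum _ (hV ⟨z, hz⟩) (y ⟨z, hz⟩)]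
  rw [map_sum]
  refine Finset.sum_congr rfl fun k _ => ?_
  rw [pres_smul, ha]

/-- The sections over `U` of a presheaf with a dual basis over `U` are those of the associated sheaf. -/
theorem DualBasis.bijective (D : DualBasis P U κ) : Function.Bijective (papp (eta P) U) :=
  ⟨D.injective, D.surjective⟩

end Groth.Agent.Krr.H495.Retract
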